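import Mathlib
import Cfsg.Agent.H990.TC.CentDec

/-!
# Centralizers of isometries with one nontrivial irreducible constituent: the range of `x - 1` is small
-/

set_option autoImplicit false
set_option linter.unusedVariables false
set_option linter.unusedSectionVars false

namespace Cfsg.Agent.H127.Og

open Module Polynomial Cfsg.Agent.H990.TC.Cent

variable {F : Type*} [Field F] {V : Type*} [AddCommGroup V] [Module F V] [FiniteDimensional F V]

/-- `H990.TC.Cent.dec` with the bound for the dimension of the range of `x - 1` only -/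
theorem dec' [Finite F] (Q : QuadraticForm F V) (hnd : ∀ u, (∀ v, QuadraticMap.polar Q v u = 0) → u = 0) {r : ℕ}
    (hr : r.Prime) (hrF : (r : F) ≠ 0) (x : Module.End F V) (hx1 : x ≠ 1) (hx : x ^ r = 1)
    (hxQ : ∀ v, Q (x v) = Q v) {k : ℕ} (hk : orderOf ((Nat.card F : ℕ) : ZMod r) = 2 * k)
    (hd : finrank F (LinearMap.range (x - 1)) < 4 * k) (hrk : r ∣ Nat.card F ^ k + 1) (c : ℕ)
    (hc : ∀ U : Submodule F V, finrank F U = finrank F V - 2 * k →
      (∀ u : U, (∀ v : U, QuadraticMap.polar (Q.comp U.subtype) v u = 0) → u = 0) →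
      Nat.card {y : Module.End F U // ∀ u, (Q.comp U.subtype) (y u) = (Q.comp U.subtype) u} ≤ c) :
    Nat.card {y : Module.End F V // Commute x y ∧ ∀ v, Q (y v) = Q v} ≤ (Nat.card F ^ k + 1) * c := by
  classical
  haveI : Finite V := Module.finite_of_finite F
  set W : Submodule F V := LinearMap.range (x - 1) with hW
  set U : Submodule F V := LinearMap.ker (x - 1) with hU
  have hWm : ∀ w, w ∈ W ↔ ∃ a, x a - a = w := fun w => by
    rw [hW, LinearMap.mem_range]
    rfl
  have hUm : ∀ u, u ∈ U ↔ x u = u := fun u => by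
    rw [hU, LinearMap.mem_ker, LinearMap.sub_apply, Module.End.one_apply, sub_eq_zero]
  have hdisj : ∀ v, v ∈ W → v ∈ U → v = 0 := by
    intro v hvW hvU
    obtain ⟨a, ha⟩ := (hWm v).1 hvW
    have hxv := (hUm v).1 hvU
    have hxa : x a = a + v := by rw [← ha]; abel
    have h1 : ∀ j : ℕ, (x ^ j) a = a + (j : F) • v := by
      intro j
      induction j with
      | zero => simp
      | succ j ih =>
        rw [pow_succ', Module.End.mul_apply, ih, map_add, map_smul, hxa, hxv, Nat.cast_succ, add_smul, one_smul]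
        abel
    have h2 := h1 r
    rw [hx, Module.End.one_apply] at h2
    have h3 : (r : F) • v = 0 := by
      have h4 : a + (r : F) • v = a + 0 := by rw [← h2, add_zero]
      exact add_left_cancel h4
    exact (smul_eq_zero.1 h3).resolve_left hrF
  have hsup : W ⊔ U = ⊤ := by
    apply Submodule.eq_top_of_disjoint
    · rw [hW, hU, LinearMap.finrank_range_add_finrank_ker]
    · rw [Submodule.disjoint_def]
      exact hdisj
  have hdecomp : ∀ v : V, ∃ w ∈ W, ∃ u ∈ U, w + u = v := fun v =>
    Submodule.mem_sup.1 (by rw [hsup]; exact Submodule.mem_top)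
  have horth : ∀ w ∈ W, ∀ u ∈ U, QuadraticMap.polar Q w u = 0 := by
    intro w hw u hu
    obtain ⟨a, rfl⟩ := (hWm w).1 hw
    have h1 := polar_isom Q x hxQ a u
    rw [(hUm u).1 hu] at h1
    rw [QuadraticMap.polar_sub_left, h1, sub_self]
  have hxW : ∀ w ∈ W, x w ∈ W := by
    intro w hw
    obtain ⟨a, rfl⟩ := (hWm w).1 hw
    exact (hWm _).2 ⟨x a, by rw [map_sub]⟩
  have hxWf : ∀ w ∈ W, x w = w → w = 0 := fun w hw h => hdisj w hw ((hUm w).2 h)
  have hdv := Cfsg.Agent.H150.dvd_finrank_of_fpf_submodule hr x hx W hxW hxWf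
  rw [hk] at hdv
  have hW0 : W ≠ ⊥ := by
    intro h0
    apply hx1
    apply LinearMap.ext
    intro v
    have h1 : x v - v ∈ W := (hWm _).2 ⟨v, rfl⟩
    rw [h0, Submodule.mem_bot, sub_eq_zero] at h1
    exact h1
  have hWpos : 0 < finrank F W := by
    rw [Nat.pos_iff_ne_zero]
    intro h0
    exact hW0 (Submodule.finrank_eq_zero.1 h0)
  have hWle : finrank F W ≤ finrank F V := Submodule.finrank_le W
  have hd' : finrank F W < 4 * k := hd
  have hWdim : finrank F W = 2 * k := by
    obtain ⟨m, hm⟩ := hdv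
    have hm1 : m = 1 := by
      have : m < 2 := by
        by_contra hcon
        have : 2 * k * 2 ≤ 2 * k * m := Nat.mul_le_mul_left _ (by omega)
        omega
      have : m ≠ 0 := by rintro rfl; omega
      omega
    rw [hm, hm1, mul_one]
  have hsum : finrank F W + finrank F U = finrank F V := by
    rw [hW, hU, LinearMap.finrank_range_add_finrank_ker]
  have hUdim : finrank F U = finrank F V - 2 * k := by omega
  have hndW : ∀ u : W, (∀ v : W, QuadraticMap.polar (Q.comp W.subtype) v u = 0) → u = 0 := by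
    intro u hu
    apply Subtype.ext
    apply hnd
    intro v
    obtain ⟨w, hw, u', hu', rfl⟩ := hdecomp v
    rw [QuadraticMap.polar_add_left]
    have h1 : QuadraticMap.polar Q w u = 0 := hu ⟨w, hw⟩
    have h2 : QuadraticMap.polar Q u' u = 0 := by
      rw [QuadraticMap.polar_comm]; exact horth _ u.2 _ hu'
    rw [h1, h2, add_zero]
  have hndU : ∀ u : U, (∀ v : U, QuadraticMap.polar (Q.comp U.subtype) v u = 0) → u = 0 := by
    intro u hu
    apply Subtype.ext
    apply hnd
    intro v
    obtain ⟨w, hw, u', hu', rfl⟩ := hdecomp v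
    rw [QuadraticMap.polar_add_left]
    have h1 : QuadraticMap.polar Q u' u = 0 := hu ⟨u', hu'⟩
    have h2 : QuadraticMap.polar Q w u = 0 := horth _ hw _ u.2
    rw [h1, h2, add_zero]
  -- the part on `W`
  haveI : Nontrivial W := Module.nontrivial_of_finrank_pos (R := F) hWpos
  set xW : Module.End F W := x.restrict hxW with hxWdef
  have hxWr : xW ^ r = 1 := by
    rw [hxWdef, Module.End.pow_restrict]
    apply LinearMap.ext
    intro w
    apply Subtype.ext
    exact LinearMap.congr_fun hx (w : V)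
  have hirr : ∀ W₁ : Submodule F W, (∀ w ∈ W₁, xW w ∈ W₁) → W₁ = ⊥ ∨ W₁ = ⊤ := fun W₁ h₁ =>
    Cfsg.Agent.H150.irr_of_dvd hr xW hxWr (fun v hv => Subtype.ext (hxWf v v.2 (congrArg Subtype.val hv)))
      (by rw [hk, hWdim]) W₁ h₁
  have h1 := card_irr (Q.comp W.subtype) hndW hr.pos xW hirr hxWr (fun v => hxQ v) hrk
  have h2 := hc U hUdim hndU
  -- the injection
  have hyW : ∀ y : Module.End F V, Commute x y → ∀ w ∈ W, y w ∈ W := by
    intro y hy w hw
    obtain ⟨a, rfl⟩ := (hWm w).1 hw
    refine (hWm _).2 ⟨y a, ?_⟩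
    rw [map_sub]
    have := LinearMap.congr_fun hy.eq a
    rw [Module.End.mul_apply, Module.End.mul_apply] at this
    rw [this]
  have hyU : ∀ y : Module.End F V, Commute x y → ∀ u ∈ U, y u ∈ U := by
    intro y hy u hu
    rw [hUm]
    have := LinearMap.congr_fun hy.eq u
    rw [Module.End.mul_apply, Module.End.mul_apply, (hUm u).1 hu] at this
    exact this
  let g : {y : Module.End F V // Commute x y ∧ ∀ v, Q (y v) = Q v} →
      {y : Module.End F W // Commute xW y ∧ ∀ v, (Q.comp W.subtype) (y v) = (Q.comp W.subtype) v} ×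
      {y : Module.End F U // ∀ v, (Q.comp U.subtype) (y v) = (Q.comp U.subtype) v} := fun y =>
    (⟨y.1.restrict (hyW y.1 y.2.1), by
      constructor
      · apply LinearMap.ext
        intro w
        apply Subtype.ext
        exact LinearMap.congr_fun y.2.1.eq (w : V)
      · intro v
        exact y.2.2 v⟩,
     ⟨y.1.restrict (hyU y.1 y.2.1), fun v => y.2.2 v⟩)
  have hg : Function.Injective g := by
    intro y z hyz
    have h3 : y.1.restrict (hyW y.1 y.2.1) = z.1.restrict (hyW z.1 z.2.1) := congrArg (fun t => t.1.1) hyz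
    have h4 : y.1.restrict (hyU y.1 y.2.1) = z.1.restrict (hyU z.1 z.2.1) := congrArg (fun t => t.2.1) hyz
    apply Subtype.ext
    apply LinearMap.ext
    intro v
    obtain ⟨w, hw, u, hu, rfl⟩ := hdecomp v
    have h5 : y.1 w = z.1 w := congrArg Subtype.val (LinearMap.congr_fun h3 ⟨w, hw⟩)
    have h6 : y.1 u = z.1 u := congrArg Subtype.val (LinearMap.congr_fun h4 ⟨u, hu⟩)
    rw [map_add, map_add, h5, h6]
  have h3 := Nat.card_le_card_of_injective g hg
  rw [Nat.card_prod] at h3
  exact h3.trans (Nat.mul_le_mul h1 h2)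

end Cfsg.Agent.H127.Og
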